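import Cfsg.Agent.Lib.KI.GTw

/-! # KI part G: the structure of `M = (H ⊔ XS S) ⊓ fix τ` -/

set_option autoImplicit false
set_option linter.unusedSectionVars false

namespace Cfsg.Lib.KI

open Finset Cfsg.Lib.Chev Cfsg.Lib.Chev.RootSys Cfsg.Lib.Chev.PreSys Cfsg.Lib.Chev.ChevSys
  Cfsg.Lib.BN Cfsg.Lib.Twisted Cfsg.Lib.Twisted.Twist Cfsg.Lib.Alg Cfsg.Lib.St Equiv
open scoped commutatorElement

variable {ι Φ : Type} [Fintype ι] [DecidableEq ι] {R : RootSys ι Φ} {k : Type*} [Field k]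
  {G : Type*} [Group G] {C : ChevSys R k G} [Fintype Φ] {p : ℕ} [Fact p.Prime] [CharP k p]

theorem eq_one_of_pow {g : G} {a : ℕ} (h : (orderOf g).Coprime p) (e : g ^ p ^ a = 1) : g = 1 :=
  orderOf_eq_one_iff.1 ((h.pow_right a).eq_one_of_dvd (orderOf_dvd_of_pow_eq_one e))

namespace Dat

variable (D : Dat C p) {A A' : Set Φ}

theorem F' : D.C'.Faithful := D.F.rebase D.B

theorem hM' : D.C'.HMul := hMul_rebase D.B D.hM

theorem H'_le : D.C'.H ≤ C.H := C.rebase_H_le D.B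

theorem U_eq : D.U D.S = D.C'.U ⊓ D.Tw.Fix := by rw [rebase_U]; rfl

theorem V_eq : D.V D.S = D.C'.V ⊓ D.Tw.Fix := by rw [rebase_V]; rfl

theorem lang' (P : Set D.S) (h : ∀ r ∈ P, D.Y.ρ r ∈ P) : Lang D.Tw.σ (D.C'.XS P) := by
  rw [rebase_XS']
  exact D.langX _ (by rintro _ ⟨r, hr, rfl⟩; exact ⟨_, h r hr, rfl⟩)

theorem exists_lead' (a : D.κ) (t : IndT R D.S → k)
    (ht : ∀ i, D.Y.orb i = a → t (D.Y.π i) = t i ^ p ^ D.m i.1) :
    ∃ g ∈ D.Tw.X a, ∀ i, D.Y.orb i = a → ld D.C' i g = t i :=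
  exists_lead D.F' D.Tw D.lang' (fun _ => D.Y.π_mem_J) t ht

theorem H_conj {h : G} (hh : h ∈ C.H) {P : Set D.S} {g : G} (hg : g ∈ D.C'.XS P) :
    h * g * h⁻¹ ∈ D.C'.XS P := by
  rw [rebase_XS'] at hg ⊢
  exact (Subgroup.mem_normalizer_iff.1 (C.H_le_normalizer _ hh) g).1 hg

theorem isTw {K : Subgroup G} (h1 : D.L D.S ≤ K) (h2 : K ≤ C.XS D.S ⊓ fix D.τ) : D.Tw.IsTw K where
  faithful := D.F'
  le_fix := h2.trans inf_le_right
  le_grp := C.rebase_grp D.B ▸ h2.trans inf_le_left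
  pos a := (inf_le_inf_right _ (XS_posJ_le_U _)).trans (D.U_eq.ge.trans (le_sup_left.trans h1))
  neg a := by
    obtain ⟨u, hu, e⟩ := D.exists_lead' a 1 (by simp)
    obtain ⟨i, rfl⟩ := D.Y.orb_surj a
    obtain ⟨n, hn⟩ := D.C'.exists_nw_of_mem_W (wJ_mem_W (D.Y.J (D.Y.orb i)))
    have h3 := D.Tw.σ_nw hn
    rw [← Sym.s, (Sym.mem_W1.1 (Sym.s_mem _)).2] at h3
    obtain ⟨h, hh, e'⟩ := D.langH _ (D.H'_le (hn.cong h3))
    have h4 : n * h⁻¹ ∈ fix D.τ := mem_fix.2 (by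
      rw [map_mul, map_inv, ← mul_inv_cancel_left n (D.τ n)]
      exact (congrArg (n * · * (D.τ h)⁻¹) e'.symm).trans (by group))
    have h5 : n * (h⁻¹ * u * h⁻¹⁻¹) * n⁻¹ ∈ D.C'.XS (negJ _ (D.Y.J (D.Y.orb i))) :=
      NW.conj_mem hn (fun r hr => wJ_mem_negJ.2 hr) (D.H_conj (inv_mem hh) hu.1)
    refine ⟨_, (le_sup_right.trans h1) (D.V_eq.ge (Subgroup.mem_inf.2 ⟨XS_negJ_le_V _ h5, ?_⟩)),
      fun h0 => ?_, h5⟩
    · have := mul_mem (mul_mem h4 (show u ∈ fix D.τ from hu.2)) (inv_mem h4)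
      simpa [mul_assoc] using! this
    · have h6 := e i rfl
      rw [show u = 1 from conj_eq_one_iff.1 (conj_eq_one_iff.1 h0), ld_one D.F'] at h6
      exact zero_ne_one h6

theorem isTw_L : D.Tw.IsTw (D.L D.S) := D.isTw le_rfl (le_inf (D.L_le_XS _) (D.L_le_fix _))

theorem L_eq_iSup : D.L D.S = ⨆ a, D.Tw.X a ⊔ D.Tw.Y a :=
  le_antisymm (sup_le (D.U_eq.le.trans (IsTw'.isTw_gen D.isTw_L).U_le)
    (D.V_eq.le.trans (IsTw'.isTw_gen D.isTw_L).V_le))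
    (iSup_le fun a => sup_le (D.isTw_L.pos a) (D.isTw_L.Y_le a))

theorem Hf_norm {h : G} (hh : h ∈ D.Hf) (P : Set Φ) :
    h ∈ Subgroup.normalizer ((C.XS P ⊓ fix D.τ : Subgroup G) : Set G) :=
  Subgroup.inf_normalizer_le_normalizer_inf
    ⟨C.H_le_normalizer _ hh.1, Subgroup.le_normalizer hh.2⟩

theorem Hf_le_normalizer_U (A : Set Φ) : D.Hf ≤ Subgroup.normalizer (D.U A : Set G) :=
  fun _ hh => D.Hf_norm hh _

theorem Hf_le_normalizer_V (A : Set Φ) : D.Hf ≤ Subgroup.normalizer (D.V A : Set G) :=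
  fun _ hh => D.Hf_norm hh _

theorem Hf_le_normalizer (A : Set Φ) : D.Hf ≤ Subgroup.normalizer (D.L A : Set G) := fun _ hh =>
  Subgroup.normalizer_inf_normalizer_le_normalizer_sup _ _
    ⟨D.Hf_le_normalizer_U A hh, D.Hf_le_normalizer_V A hh⟩

theorem mem_M_S {x : G} (hx : x ∈ D.M D.S) : ∃ l ∈ D.L D.S, ∃ h ∈ D.Hf, x = l * h := by
  obtain ⟨h, hh, y, hy, rfl⟩ := C.mem_H_sup_iff.1 hx.1
  obtain ⟨u, hu, n, w, hn, v, hv, rfl⟩ := exists_normal_form (C.rebase_grp D.B ▸ hy : y ∈ D.C'.grp)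
  have e : D.τ (h * (u * n * v)) = h * (u * n * v) := hx.2
  have h0 : h⁻¹ * D.τ h ∈ D.C'.H := by
    rw [← D.F.H_inf_XS D.B]
    refine Subgroup.mem_inf.2 ⟨mul_mem (inv_mem hh) (D.nrm.mem_H hh), ?_⟩
    rw [map_mul] at e
    have : h⁻¹ * D.τ h = u * n * v * (D.τ (u * n * v))⁻¹ := by
      rw [eq_mul_inv_iff_mul_eq, mul_assoc, e, inv_mul_cancel_left]
    exact this ▸ mul_mem hy (inv_mem (D.nrm.mem_XS (fun r hr => (D.ρS r).2 hr) hy))
  have h1 := (nw_of_mem_H h0).mul (D.Tw.σ_nw hn)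
  rw [one_mul] at h1
  obtain ⟨e1, e2, e3, e4⟩ := normal_form_unique D.F' (D.H_conj (D.H'_le h0) (D.Tw.σ_mem_U hu)) hu
    h1 hn (D.Tw.σ_mem_Uw hv) hv (by
      rw [← mul_right_inj h, ← e]
      simp only [map_mul]
      change _ = _ * (D.Tw.σ u * D.Tw.σ n * D.Tw.σ v)
      group)
  obtain ⟨n0, hn0, h2⟩ := D.isTw_L.exists_nw (Sym.mem_W1.2 ⟨hn.mem_W, e1⟩)
  have h3 : h * u * h⁻¹ ∈ D.U D.S := D.U_eq.ge (Subgroup.mem_inf.2 ⟨D.H_conj hh hu, mem_fix.2 (by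
    conv_rhs => rw [← e2]
    simp only [map_mul, map_inv]
    change _ * D.Tw.σ u * _ = _
    group)⟩)
  have h4 : v ∈ D.U D.S := D.U_eq.ge (Subgroup.mem_inf.2 ⟨D.C'.Uw_le_U _ hv, e4⟩)
  have h5 : h * n * n0⁻¹ ∈ D.Hf := by
    refine Subgroup.mem_inf.2 ⟨?_, mul_mem (mem_fix.2 ?_) (inv_mem (D.L_le_fix _ hn0))⟩
    · have := hn.mul h2.inv
      rw [mul_inv_cancel] at this
      exact mul_assoc h _ _ ▸ mul_mem hh (D.H'_le this.mem_H)
    · conv_rhs => rw [← e3]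
      rw [map_mul, mul_assoc, mul_inv_cancel_left]
      rfl
  exact ⟨_, mul_mem (D.U_le_L _ h3) ((Subgroup.mem_normalizer_iff.1 (D.Hf_le_normalizer _ h5) _).1
    (mul_mem hn0 (D.U_le_L _ h4))), _, h5, by group⟩

theorem exists_pow : ∃ a, ∀ A, (∀ g ∈ D.U A, g ^ p ^ a = 1) ∧ ∀ g ∈ D.V A, g ^ p ^ a = 1 :=
  let ⟨a, h1, h2⟩ := exists_pow_U C p
  ⟨a, fun _ => ⟨fun g hg => h1 g (C.XS_mono (fun _ h => h.1) hg.1),
    fun g hg => h2 g (C.XS_mono (fun _ h => h.1) hg.1)⟩⟩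

theorem isPGroup_U (A : Set Φ) : IsPGroup p (D.U A) := fun g =>
  let ⟨a, h⟩ := D.exists_pow; ⟨a, Subtype.ext ((h A).1 g g.2)⟩

theorem isPGroup_V (A : Set Φ) : IsPGroup p (D.V A) := fun g =>
  let ⟨a, h⟩ := D.exists_pow; ⟨a, Subtype.ext ((h A).2 g g.2)⟩

theorem mem_Z_iff {g : G} {χ : Φ → kˣ} (hg : g ∈ C.H) (h : C.Acts g 1 χ) :
    g ∈ D.Z A ↔ ∀ r ∈ A, χ r = 1 := by
  refine ⟨fun hz r hr => ?_, fun hz => ⟨hg, Subgroup.mem_centralizer_iff.2 fun y hy => ?_⟩⟩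
  · have h1 := h.conj r 1
    rw [← Subgroup.mem_centralizer_iff.1 hz.2 _ (C.x_mem hr 1), mul_inv_cancel_right] at h1
    exact Units.ext (by simpa using (D.F.x_inj h1).symm)
  · refine (XS_le (K := Subgroup.centralizer {g})).2 (fun r hr t => ?_) hy g rfl |>.symm
    rw [Subgroup.mem_centralizer_singleton_iff, h.conj', hz r hr]
    simp

theorem tor_mem_Z {c : ι → kˣ} : D.hM.torus c ∈ D.Z A ↔ ∀ r ∈ A, R.chr c r = 1 :=
  D.mem_Z_iff (D.hM.torus_mem_H c) (D.hM.acts_torus c)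

theorem Z_le_H (A : Set Φ) : D.Z A ≤ C.H := inf_le_left

theorem Z_comm {z g : G} (hz : z ∈ D.Z A) (hg : g ∈ C.H ⊔ C.XS A) : g * z = z * g :=
  (sup_le (fun _ h => Subgroup.mem_centralizer_singleton_iff.2 (D.hM.H_comm h hz.1))
    (fun _ h => Subgroup.mem_centralizer_singleton_iff.2 (hz.2 _ h)) :
      _ ≤ Subgroup.centralizer {z}) hg z rfl |>.symm

theorem mem_Z_S {g : G} (hg : g ∈ C.H) (h : ∀ u ∈ D.U D.S, g * u = u * g) : g ∈ D.Z D.S := by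
  obtain ⟨c, hc⟩ := C.exists_acts_of_mem_H hg
  have key : ∀ i, R.chr c (D.B.β i) = 1 := fun i => by
    obtain ⟨u, hu, e⟩ := D.exists_lead' (D.Y.orb i) 1 (by simp)
    have h1 := ld_conj D.F' (acts_rebase D.B hc) i (X_le_U _ hu)
    rw [h u (D.U_eq.ge ⟨X_le_U _ hu, hu.2⟩), mul_inv_cancel_right, e i rfl] at h1
    exact Units.ext (by simpa using! h1.symm)
  exact (D.mem_Z_iff hg hc).2 fun r hr => by simp [chr_base D.B c hr, key]

theorem mem_H_S {x : G} (hx : x ∈ D.M D.S) (h1 : ∀ u ∈ D.U D.S, x * u * x⁻¹ ∈ D.U D.S)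
    (h2 : ∀ u ∈ D.V D.S, x * u * x⁻¹ ∈ D.V D.S) : x ∈ C.H := by
  obtain ⟨l, hl, h, hh, rfl⟩ := D.mem_M_S hx
  refine mul_mem (D.H'_le (IsTw'.mem_H D.isTw_L hl (fun u hu => D.C'.U_le_B ?_) fun u hu => ?_)) hh.1
  · have := h1 _ ((Subgroup.mem_normalizer_iff.1 (D.Hf_le_normalizer_U _ (inv_mem hh)) u).1
      (D.U_eq.ge hu))
    simpa [mul_assoc] using (D.U_eq.le this).1
  · have := h2 _ ((Subgroup.mem_normalizer_iff.1 (D.Hf_le_normalizer_V _ (inv_mem hh)) u).1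
      (D.V_eq.ge hu))
    simpa [mul_assoc] using (D.V_eq.le this).1

variable {D}

theorem Min.irr (h : D.Min D.S) (P : Set D.κ) (h1 : P.Nonempty) (h2 : Pᶜ.Nonempty) :
    ∃ i j, D.Y.orb i ∈ P ∧ D.Y.orb j ∉ P ∧ D.B.sys.A i j ≠ 0 := by
  by_contra! h0
  have h3 : ∀ i ∈ D.Y.orb ⁻¹' P, ∀ j ∉ D.Y.orb ⁻¹' P, D.B.sys.A i j = 0 := fun i hi j hj =>
    h0 i j hi hj
  have hJ : ∀ i, D.Y.π i ∈ D.Y.orb ⁻¹' P ↔ i ∈ D.Y.orb ⁻¹' P := fun i => by simp [D.Y.orb_π]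
  have h4 : ∀ r, D.B.sys.InJ (D.Y.orb ⁻¹' P) (D.Y.ρ r) ↔ D.B.sys.InJ (D.Y.orb ⁻¹' P) r := fun r => by
    have := Sym.ρ_mem_posJ hJ (r := r)
    have := Sym.ρ_mem_negJ hJ (r := r)
    have := D.Y.isPos_ρ (r := r)
    simp only [posJ, negJ, Set.mem_ofPred_eq] at *
    tauto
  have h5 : D.Part (Subtype.val '' {r | D.B.sys.InJ (D.Y.orb ⁻¹' P) r}) :=
    ⟨by rintro _ ⟨r, -, rfl⟩; exact r.2, fun r => ⟨fun ⟨s, hs, e⟩ =>
      ⟨⟨r, (D.ρS r).1 (e ▸ s.2)⟩, (h4 _).1 (by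
        rwa [show s = D.Y.ρ ⟨r, (D.ρS r).1 (e ▸ s.2)⟩ from Subtype.ext e] at hs), rfl⟩,
      by rintro ⟨r, hr, rfl⟩; exact ⟨_, (h4 r).2 hr, rfl⟩⟩, by
      rintro _ ⟨a, ha, rfl⟩ b hb e
      exact ⟨⟨b, hb⟩, (inJ_or_of_split h3 _).resolve_right fun h' =>
        e ((D.B.sys_pair a ⟨b, hb⟩).symm.trans (pair_eq_zero_of_split h3 ha h')), rfl⟩⟩
  obtain ⟨i, hi⟩ := h1.preimage D.Y.orb_surj
  obtain ⟨j, hj⟩ := h2.preimage D.Y.orb_surj
  obtain ⟨r, hr, e⟩ := (h.min _ h5 h5.sub ⟨_, _, inJ_simple_iff.2 hi, rfl⟩).ge (D.B.mem j)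
  rw [show r = D.B.sys.simple j from Subtype.ext e] at hr
  exact hj ((inJ_simple_iff (R := D.B.sys)).1 hr)

theorem Min.tits_S (h : D.Min D.S) {N : Subgroup G} (h1 : D.L D.S ≤ Subgroup.normalizer (N : Set G))
    (h2 : N ≤ Subgroup.normalizer (D.L D.S : Set G)) :
    D.L D.S ≤ N ⊓ D.L D.S ⊔ D.U D.S ∨ N ≤ Subgroup.centralizer (D.L D.S : Set G) := by
  have hK := D.isTw_L
  have h3 : D.L D.S ≤ Subgroup.normalizer ((N ⊓ D.L D.S : Subgroup G) : Set G) := fun _ hg =>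
    Subgroup.inf_normalizer_le_normalizer_inf ⟨h1 hg, Subgroup.le_normalizer hg⟩
  have := Subgroup.normal_subgroupOf_of_le_normalizer h3
  obtain ⟨a, ha⟩ := D.exists_pow
  refine (normal_le_or_sup (hK.irreducible fun P a b => let ⟨i, j, hi, hj, e⟩ := h.irr P a b
    ⟨_, hi, _, hj, s_ne_comm (fun e => hj (e ▸ hi)) e⟩)
    ((N ⊓ D.L D.S).subgroupOf (D.L D.S))).symm.imp (fun h4 => ?_) fun h4 => ?_
  · refine sup_le le_sup_right fun v hv => ?_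
    obtain ⟨b, hb, y, hy, e⟩ := Subgroup.mem_sup_of_normal_right.1 (h4.ge
      (Subgroup.mem_top (⟨v, D.V_le_L _ hv⟩ : D.L D.S)))
    obtain ⟨u, hu, t, ht, e'⟩ := hK.mem_B_iff.1 hb
    have h5 : t ∈ Subgroup.normalizer ((N ⊓ D.L D.S ⊔ D.U D.S : Subgroup G) : Set G) :=
      Subgroup.normalizer_inf_normalizer_le_normalizer_sup _ _ ⟨h3 ht.2,
        D.Hf_le_normalizer_U _ ⟨D.H'_le ht.1, D.L_le_fix _ ht.2⟩⟩
    have h6 : t⁻¹ * v ∈ N ⊓ D.L D.S ⊔ D.U D.S := by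
      have : t⁻¹ * v = t⁻¹ * u * t⁻¹⁻¹ * y := by
        rw [show v = b * y from (congrArg Subtype.val e).symm, show (b : G) = u * t from e']; group
      exact this ▸ mul_mem ((Subgroup.mem_normalizer_iff.1 (inv_mem h5) u).1
        (Subgroup.mem_sup_right (D.U_eq.ge (hK.U_inf.le hu)))) (Subgroup.mem_sup_left hy)
    have h7 : ∀ n : ℕ, (t ^ n)⁻¹ * v ^ n ∈ N ⊓ D.L D.S ⊔ D.U D.S := fun n => by
      induction n with
      | zero => simp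
      | succ n ih =>
        have := mul_mem ((Subgroup.mem_normalizer_iff.1 (inv_mem h5) _).1 ih) h6
        convert this using 1
        rw [pow_succ', pow_succ]
        group
    have h8 := h7 (p ^ a)
    rw [(ha _).2 v hv, mul_one, inv_mem_iff] at h8
    have h9 := (Subgroup.zpowers_le.2 h8) (mem_zpowers_pow_iff.2
      ((D.cop t (D.H'_le ht.1)).symm.pow_left a))
    simpa using mul_mem h9 h6
  · obtain ⟨n, hn, a1, -, -, -, hN⟩ := IsTw'.exists_opp hK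
    have h5 : ∀ x ∈ N ⊓ D.L D.S, x ∈ D.C'.H := fun x hx => IsTw'.mem_H_of_opp hK a1 hN
      (h4 (show (⟨x, hx.2⟩ : D.L D.S) ∈ _ from hx)).1
      (h4 (show (⟨_, mul_mem (mul_mem hn hx.2) (inv_mem hn)⟩ : D.L D.S) ∈ _ from
        (Subgroup.mem_normalizer_iff.1 (h3 hn) x).1 hx)).1
    have h6 : ∀ y ∈ N, ∀ u ∈ D.L D.S, y * u * y⁻¹ * u⁻¹ ∈ N ⊓ D.L D.S := fun y hy u hu =>
      Subgroup.mem_inf.2 ⟨by
        simpa [mul_assoc] using mul_mem hy ((Subgroup.mem_normalizer_iff.1 (h1 hu) _).1 (inv_mem hy)),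
        mul_mem ((Subgroup.mem_normalizer_iff.1 (h2 hy) u).1 hu) (inv_mem hu)⟩
    have h7 : ∀ x ∈ N ⊓ D.L D.S, x ∈ D.Z D.S := fun x hx => D.mem_Z_S (D.H'_le (h5 x hx))
      fun u hu => by
        have h8 := (D.U_eq.le hu).1
        have := D.F'.eq_one_of_U_H (mul_mem (D.H_conj (D.H'_le (h5 x hx)) h8) (inv_mem h8))
          (h5 _ (h6 x hx.1 u (D.U_le_L _ hu)))
        rwa [mul_inv_eq_one, mul_inv_eq_iff_eq_mul] at this
    have h8 : ∀ y ∈ N, ∀ u ∈ D.L D.S, u ^ p ^ a = 1 → u ∈ Subgroup.centralizer {y} :=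
      fun y hy u hu e => by
      have h9 := h7 _ (h6 y hy u hu)
      have h10 : Commute (y * u * y⁻¹ * u⁻¹) u :=
        (D.Z_comm h9 (Subgroup.mem_sup_right (D.L_le_XS _ hu))).symm
      have h11 := h10.mul_pow (p ^ a)
      rw [inv_mul_cancel_right, conj_pow, e, mul_one, mul_one, mul_inv_cancel] at h11
      have := eq_one_of_pow (D.cop _ h9.1) h11.symm
      rw [mul_inv_eq_one, mul_inv_eq_iff_eq_mul] at this
      exact Subgroup.mem_centralizer_singleton_iff.2 this.symm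
    exact fun y hy u hu => (sup_le (fun u hu => h8 y hy u (D.U_le_L _ hu) ((ha _).1 u hu))
      (fun u hu => h8 y hy u (D.V_le_L _ hu) ((ha _).2 u hu)) : D.L D.S ≤ _) hu y rfl |>.symm

/-- (a) `M = L · Hf`. -/
theorem Part.mem_M (h : D.Part A) {x : G} (hx : x ∈ D.M A) :
    ∃ l ∈ D.L A, ∃ t ∈ D.Hf, x = l * t := (Dat.sub h).mem_M_S hx

theorem Part.M_eq (h : D.Part A) : D.M A = D.L A ⊔ D.Hf :=
  le_antisymm (fun _ hx => let ⟨_, h1, _, h2, e⟩ := h.mem_M hx; e ▸ Subgroup.mul_mem_sup h1 h2)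
    (sup_le (D.L_le_M A) (D.Hf_le_M A))

/-- (c) for torus elements. -/
theorem Part.mem_Z (h : D.Part A) {g : G} (hg : g ∈ C.H) (h1 : ∀ u ∈ D.U A, g * u = u * g) :
    g ∈ D.Z A := (Dat.sub h).mem_Z_S hg h1

theorem Part.mem_H (h : D.Part A) {x : G} (hx : x ∈ D.M A) (h1 : ∀ u ∈ D.U A, x * u * x⁻¹ ∈ D.U A)
    (h2 : ∀ u ∈ D.V A, x * u * x⁻¹ ∈ D.V A) : x ∈ C.H := (Dat.sub h).mem_H_S hx h1 h2

/-- (c) `C_M(L) ≤ Z`. -/
theorem Part.mem_Z_of_comm (h : D.Part A) {x : G} (hx : x ∈ D.M A)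
    (h1 : x ∈ Subgroup.centralizer (D.L A : Set G)) : x ∈ D.Z A :=
  h.mem_Z (h.mem_H hx (fun u hu => by rwa [← h1 u (D.U_le_L A hu), mul_inv_cancel_right])
    fun u hu => by rwa [← h1 u (D.V_le_L A hu), mul_inv_cancel_right])
    fun u hu => (h1 u (D.U_le_L A hu)).symm

/-- (b) Tits' lemma. -/
theorem Min.tits (h : D.Min A) {N : Subgroup G} (h1 : D.L A ≤ Subgroup.normalizer (N : Set G))
    (h2 : N ≤ Subgroup.normalizer (D.L A : Set G)) :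
    D.L A ≤ N ⊓ D.L A ⊔ D.U A ∨ N ≤ Subgroup.centralizer (D.L A : Set G) :=
  h.sub_min.tits_S h1 h2

theorem Part.XS_comm (h : D.Part A) (h' : D.Part A') (hd : Disjoint A A') :
    C.XS A ≤ Subgroup.centralizer (C.XS A' : Set G) := by
  have h0 : ∀ a ∈ A, ∀ b ∈ A', R.pair a b = 0 := fun a ha b hb => not_not.1 fun e =>
    Set.disjoint_left.1 hd (h.conn a ha b (h'.sub hb) e) hb
  refine XS_le.2 fun a ha t y hy => ?_
  refine (XS_le (K := Subgroup.centralizer {C.x a t})).2 (fun b hb u => ?_) hy _ rfl |>.symm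
  refine Subgroup.mem_centralizer_singleton_iff.2 (C.commute_of_not_between
    (ne_neg_of_pair (by rw [h0 a ha b hb]; omega)) (fun m hm => ?_) t u).symm.eq
  obtain ⟨i, j, hi, hj, e⟩ := hm.exists_int
  have h1 := D.cl a (h.sub ha) b (h'.sub hb) m i j e
  have h2 := pair_of_comb e a
  have h3 := pair_of_comb e b
  rw [pair_self, h0 a ha b hb] at h2
  rw [pair_self, R.pair_eq_zero_comm.1 (h0 a ha b hb)] at h3
  exact Set.disjoint_left.1 hd (h.conn a ha m h1 (by omega)) (h'.conn b hb m h1 (by omega))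

theorem Part.L_comm (h : D.Part A) (h' : D.Part A') (hd : Disjoint A A') :
    D.L A ≤ Subgroup.centralizer (D.L A' : Set G) :=
  (D.L_le_XS A).trans ((h.XS_comm h' hd).trans (Subgroup.centralizer_le (D.L_le_XS A')))

theorem Min.L_comm (h : D.Min A) (h' : D.Min A') (hne : A ≠ A') :
    D.L A ≤ Subgroup.centralizer (D.L A' : Set G) := h.toPart.L_comm h'.toPart (h.disjoint h' hne)

theorem Part.mem_of_inJ (h : D.Part A) {J : Set (IndT R D.S)} (hJ : ∀ i ∈ J, i.1 ∈ A) {r : D.S}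
    (hr : D.B.sys.InJ J r) : r.1 ∈ A := by
  by_contra h0
  have h1 := D.B.sys.pair_self r
  rw [pair_eq_sum', sum_eq_zero fun i _ => ?_] at h1
  · omega
  by_cases hi : i ∈ J
  · rw [D.B.sys_pair]
    exact mul_eq_zero_of_right _
      (R.pair_eq_zero_comm.1 (not_not.1 fun e => h0 (h.conn _ (hJ i hi) _ r.2 e)))
  · rw [hr i hi, zero_mul]

theorem Part.mem_of_orb (h : D.Part A) {i j : IndT R D.S} (hi : i.1 ∈ A)
    (e : D.Y.orb j = D.Y.orb i) : j.1 ∈ A := by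
  obtain ⟨n, rfl⟩ := D.Y.same _ _ e.symm
  clear e
  induction n with
  | zero => exact hi
  | succ n ih => rw [pow_succ', Perm.mul_apply, D.coe_π]; exact (h.ρ _).2 ih

theorem Part.XY_le (h : D.Part A) {i : IndT R D.S} (hi : i.1 ∈ A) :
    D.Tw.X (D.Y.orb i) ≤ D.U A ∧ D.Tw.Y (D.Y.orb i) ≤ D.V A := by
  have key := fun r => h.mem_of_inJ (J := D.Y.J (D.Y.orb i)) (fun j hj => h.mem_of_orb hi hj) (r := r)
  exact ⟨inf_le_inf_right _ (XS_le.2 fun r hr t => C.x_mem (S := {r | R.IsPos r ∧ r ∈ A})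
    ⟨D.B.sys_isPos.1 hr.1, key r hr.2⟩ t), inf_le_inf_right _ (XS_le.2 fun r hr t =>
      C.x_mem (S := {r | ¬ R.IsPos r ∧ r ∈ A}) ⟨mt D.B.sys_isPos.2 hr.1, key r hr.2⟩ t)⟩

variable (D) in
/-- (a) `L` is the commuting product of the `L A`. -/
theorem L_eq : D.L D.S = ⨆ A : {A // D.Min A}, D.L A := by
  refine le_antisymm (D.L_eq_iSup.le.trans (iSup_le fun a => ?_)) (iSup_le fun A => D.L_mono A.2.sub)
  obtain ⟨i, rfl⟩ := D.Y.orb_surj a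
  obtain ⟨A, hA, hi⟩ := exists_min (D := D) i.2.1
  exact (sup_le_sup (hA.XY_le hi).1 (hA.XY_le hi).2).trans
    (le_iSup (fun A : {A // D.Min A} => D.L A) ⟨A, hA⟩)

theorem Part.L_eq_sup (h : D.Part A) : D.L D.S = D.L A ⊔ D.L (D.S \ A) := by
  refine le_antisymm (D.L_eq_iSup.le.trans (iSup_le fun a => ?_))
    (sup_le (D.L_mono h.sub) (D.L_mono Set.sdiff_subset))
  obtain ⟨i, rfl⟩ := D.Y.orb_surj a
  by_cases hi : i.1 ∈ A
  · exact (sup_le_sup (h.XY_le hi).1 (h.XY_le hi).2).trans le_sup_left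
  · have := (part_S.diff h).XY_le (i := i) ⟨i.2.1, hi⟩
    exact (sup_le_sup this.1 this.2).trans le_sup_right

/-- (a) `L A` is normal in `M`. -/
theorem Part.M_le_normalizer (h : D.Part A) : D.M D.S ≤ Subgroup.normalizer (D.L A : Set G) := by
  rw [part_S.M_eq, h.L_eq_sup]
  exact sup_le (sup_le Subgroup.le_normalizer (((part_S.diff h).L_comm h
    Set.disjoint_sdiff_left).trans (Subgroup.centralizer_le_normalizer _))) (D.Hf_le_normalizer A)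

theorem Part.commutator_le (h : D.Part A) : ⁅D.M A, D.M A⁆ ≤ D.L A := by
  refine Subgroup.commutator_le.2 fun x hx y hy => ?_
  obtain ⟨a, ha, s, hs, rfl⟩ := h.mem_M hx
  obtain ⟨b, hb, t, ht, rfl⟩ := h.mem_M hy
  have h1 := fun {s : G} (hs : s ∈ D.Hf) {a : G} (ha : a ∈ D.L A) =>
    (Subgroup.mem_normalizer_iff.1 (D.Hf_le_normalizer A hs) a).1 ha
  have : ⁅a * s, b * t⁆ = a * (s * b * s⁻¹) * (s * t * s⁻¹ * t⁻¹) * (t * a⁻¹ * t⁻¹) * b⁻¹ := by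
    rw [commutatorElement_def]; group
  rw [this, D.hM.H_comm hs.1 ht.1, mul_inv_cancel_right, mul_inv_cancel, mul_one]
  exact mul_mem (mul_mem (mul_mem ha (h1 hs hb)) (h1 ht (inv_mem ha))) (inv_mem hb)

/-- `L A` contains an element no odd power of which lies in the torus. -/
theorem Part.exists_odd (h : D.Part A) (h0 : A.Nonempty) :
    ∃ n ∈ D.L A, n * n ∈ C.H ∧ n ∈ C.N ∧ ∀ j, Odd j → n ^ j ∉ C.H := by
  let D' := Dat.sub h
  obtain ⟨r, hr⟩ := h0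
  obtain ⟨i, -⟩ := exists_simple_pair_ne (R := D'.B.sys) ⟨r, hr⟩
  obtain ⟨n, hn, h1⟩ := D'.isTw_L.exists_n (D'.Y.orb i)
  have h2 := h1.mul h1
  rw [Sym.s_mul_self] at h2
  obtain ⟨v, -, h3, h4⟩ := nw_of_rebase D'.B h1
  refine ⟨n, hn, D'.H'_le h2.mem_H, h3.mem_N, ?_⟩
  rintro _ ⟨j, rfl⟩ h5
  rw [pow_succ, pow_mul, pow_two, C.H.mul_mem_cancel_left (pow_mem (D'.H'_le h2.mem_H) j)] at h5
  obtain rfl := D.F.nw_unique h3 (nw_of_mem_H h5)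
  exact Sym.s_ne_one _ (Equiv.ext fun r => Subtype.ext (h4 r))

end Dat

end Cfsg.Lib.KI
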